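import Groth.Agent.H64.Boot.Key
import Groth.Agent.H64.Psh.DiagAlg
import Groth.Agent.H64.Psh.FpRep
import Groth.Agent.H64.Psh.AlgStackRep
import Groth.Agent.H64.Stk.FpPaste
import Groth.Agent.H64.Stk.FpSwap
import Groth.Agent.H64.Stk.FpStack
import Groth.Agent.H64.Fib.DiagRep
import Groth.Agent.H64.FpSetoid
import Groth.Agent.H64.Aff.QuotDiag
import Groth.Agent.H65.AlgStQC5

set_option autoImplicit false
open CategoryTheory CategoryTheory.Limits Opposite AlgebraicGeometry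
universe u

/-! A stack in groupoids with a smooth surjective chart representable by algebraic spaces is an
algebraic stack (conditional on the bootstrap theorem). -/

namespace Groth.Agent.H64.Boot

open Groth.Agent.H32 Groth.Agent.H64.Recog Groth.Agent.H64.FpRep AlgSt Groth.Agent.H64.PTh
  Groth.Agent.H64.FldPt

variable {S : Scheme.{u}} {𝒳 : AlgSt.Cat S}

/-- the base change of a chart `x` to the fibre product of two scheme-valued objects is
representable by an algebraic space -/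
theorem repByAlgSp_fp_chart (h𝒳 : FibCat.IsFibGrpd 𝒳.p) {U₀ T T' : Over S}
    (x : FibCat.overCat U₀ ⥤ᵇ 𝒳) (hx1 : RepByAlgSp1 x)
    (y : FibCat.overCat T' ⥤ᵇ 𝒳) (G : FibCat.overCat T ⥤ᵇ 𝒳) :
    RepByAlgSp (FibCat.fp (BasedFunctor.comp (FibCat.fpFst y G) y) x) := by
  have hT : FibCat.IsFibSetoid (FibCat.overCat T).p := isFibSetoid_overCat T
  have hT' : FibCat.IsFibSetoid (FibCat.overCat T').p := isFibSetoid_overCat T'
  have hU₀ : FibCat.IsFibSetoid (FibCat.overCat U₀).p := isFibSetoid_overCat U₀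
  -- (6)
  have h6a : RepByAlgSp (FibCat.fp x G) :=
    repByAlgSp_of_isEquivOver (isEquivOver_fpSwap G x) (hx1 T G)
  have h6b : RepByAlgSp1 (FibCat.fpFst x G) :=
    repByAlgSp1_of_repByAlgSp h6a (repByAlgSp_overCat U₀) _
  have h6 : RepByAlgSp (FibCat.fp (FibCat.fpSnd y x) (FibCat.fpFst x G)) :=
    FpRep.main (isFibGrpd_fp x G hU₀.1 hT.1 h𝒳) hU₀.1 (FibCat.fpFst x G) (FibCat.fpSnd y x) h6b
      (hx1 T' y)
  -- (5)
  have h5 : RepByAlgSp (FibCat.fp (BasedFunctor.comp (FibCat.fpSnd y x) x) G) :=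
    repByAlgSp_of_isEquivOver' (isEquivOver_fpPaste G x (FibCat.fpSnd y x)) h6
  -- (4)
  obtain ⟨Ψ, hΨ⟩ := exists_equiv_fp_of_iso (FibCat.fpIso y x) (Iso.refl G)
  have h4 : RepByAlgSp (FibCat.fp (BasedFunctor.comp (FibCat.fpFst y x) y) G) :=
    repByAlgSp_of_isEquivOver' hΨ h5
  -- (3)
  have h3 : RepByAlgSp (FibCat.fp (FibCat.fpFst y x) (FibCat.fpFst y G)) :=
    repByAlgSp_of_isEquivOver (isEquivOver_fpPaste G y (FibCat.fpFst y x)) h4
  -- (2)
  have h2 : RepByAlgSp (FibCat.fp (FibCat.fpFst y G) (FibCat.fpFst y x)) :=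
    repByAlgSp_of_isEquivOver' (isEquivOver_fpSwap (FibCat.fpFst y G) (FibCat.fpFst y x)) h3
  -- (1)
  exact repByAlgSp_of_isEquivOver' (isEquivOver_fpPaste x y (FibCat.fpFst y G)) h2

/-- (S12760, scheme chart form) -/
theorem isAlgStack_of_smooth_surjective_chart (hB : BootHyp S)
    (h𝒳 : Stk.IsStack (AlgSp.J S) 𝒳) (U₀ : Over S) (x : FibCat.overCat U₀ ⥤ᵇ 𝒳)
    (hx : RepByAlgSpWith (AlgSp.LocP @Smooth) x)
    (hxs : RepByAlgSpWith AlgSp.IsSurjectiveMor x) :
    IsAlgStack Scheme.fppfPrecoverage 𝒳 where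
  isStack := h𝒳
  atlas := ⟨U₀, x, hx, hxs⟩
  diag := by
    apply repByAlgSp1_diag_of_forall
    intro T G T' y
    have hT := (Groth.Agent.H65.AlgStQC5.isAlgStack_overCat T).isStack
    have hT' := (Groth.Agent.H65.AlgStQC5.isAlgStack_overCat T').isStack
    have hst : Stk.IsStack (AlgSp.J S) (FibCat.fp y G) :=
      isStack_fp y G (AlgSp.J S) hT' hT (Groth.Agent.H64.Aff.isPrestack_of_isStack h𝒳)
    have hs : FibCat.IsFibSetoid (FibCat.fp y G).p :=
      isFibSetoid_fp y G (isFibSetoid_overCat T') (isFibSetoid_overCat T) h𝒳.1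
    let c : FibCat.fp y G ⥤ᵇ 𝒳 := BasedFunctor.comp (FibCat.fpFst y G) y
    obtain ⟨A, eA, heA⟩ := repByAlgSp_fp_chart h𝒳.1 x (RepByAlgSpWith.repByAlgSp1 hx) y G
    have tr : ∀ P : MorphismProperty (AlgSp.Sp S), RepByAlgSpWith P x →
        RepByAlgSpWith P (BasedFunctor.comp eA (FibCat.fpFst c x)) := fun P h =>
      repByAlgSpWith_of_square P (FibCat.fpFst c x) _ eA (BasedFunctor.id _) heA
        (isEquivOver_id _) (Iso.refl _) (repByAlgSpWith_fpFst P x c h)
    exact repByAlgSp_of_isFibSetoid_of_chart hB hst hs A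
      (BasedFunctor.comp eA (FibCat.fpFst c x)) (tr _ hxs)
      (tr _ (repByAlgSpWith_locP_mono smooth_le_flat x hx))
      (tr _ (repByAlgSpWith_locP_mono smooth_le_lfp x hx))

end Groth.Agent.H64.Boot
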