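import Groth.Agent.H64.Boot.Atlas
import Groth.Agent.H64.Psh.SmoothLoc2

set_option autoImplicit false
open CategoryTheory CategoryTheory.Limits Opposite AlgebraicGeometry
universe u

/-! Algebraicity from a smooth surjective chart from an algebraic space, and from a smooth
surjective base change (conditional on the bootstrap theorem). -/

namespace Groth.Agent.H64.Boot

open Groth.Agent.H32 Groth.Agent.H64.Recog Groth.Agent.H64.FpRep AlgSt Groth.Agent.H64.PTh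
  Groth.Agent.H64.FldPt

variable {S : Scheme.{u}}

/-- a chart from an algebraic space -/
theorem isAlgStack_of_smooth_surjective_space_chart (hB : BootHyp S) {𝒳 : AlgSt.Cat S}
    (h𝒳 : Stk.IsStack (AlgSp.J S) 𝒳) (G : AlgSp.Space S) (u : ofSp G.obj ⥤ᵇ 𝒳)
    (hsm : RepByAlgSpWith (AlgSp.LocP @Smooth) u)
    (hsurj : RepByAlgSpWith AlgSp.IsSurjectiveMor u) :
    IsAlgStack Scheme.fppfPrecoverage 𝒳 := by
  obtain ⟨W, p, hpE, hpS⟩ := G.property.atlas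
  obtain ⟨x', h1, h2⟩ := exists_scheme_chart_of_space_chart G u hsm p hpE hpS
  exact isAlgStack_of_smooth_surjective_chart hB h𝒳 W x' h1 (h2 hsurj)

/-- (S12760) -/
theorem isAlgStack_of_repByAlgSp_smooth_surjective (hB : BootHyp S) {𝒰 𝒳 : AlgSt.Cat S}
    (h𝒳 : Stk.IsStack (AlgSp.J S) 𝒳)
    (hU : RepByAlgSp 𝒰) (u : 𝒰 ⥤ᵇ 𝒳) (hsm : RepByAlgSpWith (AlgSp.LocP @Smooth) u)
    (hsurj : RepByAlgSpWith AlgSp.IsSurjectiveMor u) :
    IsAlgStack Scheme.fppfPrecoverage 𝒳 := by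
  obtain ⟨G, e, he⟩ := hU
  exact isAlgStack_of_smooth_surjective_space_chart hB h𝒳 G (BasedFunctor.comp e u)
    (Groth.Agent.H65.AlgStImmNoeth.repByAlgSpWith_equiv_comp _ e he u hsm)
    (Groth.Agent.H65.AlgStImmNoeth.repByAlgSpWith_equiv_comp _ e he u hsurj)

/-- (S16213) -/
theorem isAlgStack_of_isAlgStack_fp_smooth_surjective (hB : BootHyp S) {𝒳 𝒴 : AlgSt.Cat S}
    (h𝒳 : Stk.IsStack (AlgSp.J S) 𝒳)
    (h𝒴 : IsAlgStack Scheme.fppfPrecoverage 𝒴) (f : 𝒳 ⥤ᵇ 𝒴)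
    (Z : AlgSp.Space S) (z : ofSp Z.obj ⥤ᵇ 𝒴)
    (hsm : RepByAlgSpWith (AlgSp.LocP @Smooth) z)
    (hsurj : RepByAlgSpWith AlgSp.IsSurjectiveMor z)
    (hfp : IsAlgStack Scheme.fppfPrecoverage (FibCat.fp z f)) :
    IsAlgStack Scheme.fppfPrecoverage 𝒳 := by
  obtain ⟨U, x, hx, hxs⟩ := hfp.atlas
  have hU : FibCat.IsFibGrpd (FibCat.overCat U).p := (isFibSetoid_overCat U).1
  have hF : FibCat.IsFibGrpd (FibCat.fp z f).p := hfp.isStack.1
  have h1 : RepByAlgSpWith (AlgSp.LocP @Smooth) (FibCat.fpSnd z f) :=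
    repByAlgSpWith_fpSnd _ z f hsm
  have h2 : RepByAlgSpWith AlgSp.IsSurjectiveMor (FibCat.fpSnd z f) :=
    repByAlgSpWith_fpSnd _ z f hsurj
  exact isAlgStack_of_smooth_surjective_chart hB h𝒳 U (BasedFunctor.comp x (FibCat.fpSnd z f))
    (repByAlgSpWith_smooth_comp hU hF x _ hx h1) (repByAlgSpWith_surj_comp hU hF x _ hxs h2)

end Groth.Agent.H64.Boot
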