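import Groth.Agent.H64.Boot.Key
import Groth.Agent.H64.OpenCov.Setoid
import Groth.Agent.H64.FpSetoid
import Groth.Agent.H64.Stk.FpSwap
import Groth.Agent.H64.Psh.FpAlg
import Groth.Agent.H64.Psh.ProdAlg
import Groth.Agent.H64.MonoFF
import Groth.Agent.H64.Gerb.FpFstFF
import Groth.Agent.H65.AlgStQC5

set_option autoImplicit false
open CategoryTheory CategoryTheory.Limits Opposite AlgebraicGeometry
universe u

/-! Consequences of the bootstrap theorem (conditional): stacks in setoids, faithful morphisms,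
fully faithful morphisms. -/

namespace Groth.Agent.H64.Boot

open Groth.Agent.H32 Groth.Agent.H64.Recog Groth.Agent.H64.FpRep AlgSt Groth.Agent.H64.PTh
  Groth.Agent.H64.Pts Groth.Agent.H64.FldPt Groth.Agent.H64.OpenCov

variable {S : Scheme.{u}}

/-- (S12761) an algebraic stack is fibred in setoids iff it is representable by an algebraic
space -/
theorem isFibSetoid_iff_repByAlgSp (hB : BootHyp S) {𝒳 : AlgSt.Cat S}
    (h𝒳 : IsAlgStack Scheme.fppfPrecoverage 𝒳) :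
    FibCat.IsFibSetoid 𝒳.p ↔ RepByAlgSp 𝒳 :=
  ⟨repByAlgSp_of_isFibSetoid hB h𝒳, OpenCov.isFibSetoid_of_repByAlgSp⟩

/-- a faithful morphism of algebraic stacks is representable by algebraic spaces -/
theorem repByAlgSp1_of_faithful (hB : BootHyp S) {𝒳 𝒴 : AlgSt.Cat S}
    (h𝒳 : IsAlgStack Scheme.fppfPrecoverage 𝒳) (h𝒴 : IsAlgStack Scheme.fppfPrecoverage 𝒴)
    (f : 𝒳 ⥤ᵇ 𝒴) [f.toFunctor.Faithful] : RepByAlgSp1 f := by
  intro U y
  have hU := Groth.Agent.H65.AlgStQC5.isAlgStack_overCat U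
  have halg : IsAlgStack Scheme.fppfPrecoverage (FibCat.fp y f) :=
    isAlgStack_fp h𝒴.isStack.1 h𝒴.diag hU h𝒳 y f
  have hs' : FibCat.IsFibSetoid (FibCat.fp f y).p :=
    isFibSetoid_fp_of_faithful f y h𝒴.isStack.1 h𝒳.isStack.1 (isFibSetoid_overCat U)
  have hs : FibCat.IsFibSetoid (FibCat.fp y f).p :=
    (isFibSetoid_iff_of_isEquivOver (isEquivOver_fpSwap y f)).mpr hs'
  exact repByAlgSp_of_isFibSetoid hB halg hs

/-- (S12762) faithful iff representable by algebraic spaces -/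
theorem faithful_iff_repByAlgSp1 (hB : BootHyp S) {𝒳 𝒴 : AlgSt.Cat S}
    (h𝒳 : IsAlgStack Scheme.fppfPrecoverage 𝒳) (h𝒴 : IsAlgStack Scheme.fppfPrecoverage 𝒴)
    (f : 𝒳 ⥤ᵇ 𝒴) : f.toFunctor.Faithful ↔ RepByAlgSp1 f := by
  constructor
  · intro h
    exact repByAlgSp1_of_faithful hB h𝒳 h𝒴 f
  · intro h
    exact faithful_of_repByAlgSpWith h𝒳.isStack.1 h𝒴.isStack.1 _ f ((repByAlgSp1_iff_top f).1 h)

/-- a full functor from the category of a sheaf to a slice induces a monomorphism of sheaves -/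
theorem mono_spMapOfOver_of_full {F : AlgSp.Sp S} {U : Over S}
    (Φ : ofSp F ⥤ᵇ FibCat.overCat U) [Φ.toFunctor.Full] : Mono (spMapOfOver Φ) := by
  have hinj : ∀ T : (Over S)ᵒᵖ, Function.Injective ((spMapOfOver Φ).hom.app T) := by
    intro T σ σ' h
    obtain ⟨T⟩ := T
    have h1 : secHom Φ ⟨T, σ⟩ = secHom Φ ⟨T, σ'⟩ := congrArg ULift.down h
    have hA : (Φ.obj ⟨T, σ⟩).left = T := Φ.w_obj ⟨T, σ⟩
    have hA' : (Φ.obj ⟨T, σ'⟩).left = T := Φ.w_obj ⟨T, σ'⟩
    have h2 : eqToHom hA.symm ≫ (Φ.obj ⟨T, σ⟩).hom = eqToHom hA'.symm ≫ (Φ.obj ⟨T, σ'⟩).hom := h1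
    let n : Φ.obj ⟨T, σ⟩ ⟶ Φ.obj ⟨T, σ'⟩ := Over.homMk (eqToHom (hA.trans hA'.symm)) (by
      have h3 := congrArg (eqToHom hA ≫ ·) h2
      simp only [eqToHom_trans_assoc, eqToHom_refl, Category.id_comp] at h3
      exact h3.symm)
    obtain ⟨m, hm⟩ := Φ.toFunctor.map_surjective n
    have hn : (FibCat.overCat U).p.IsHomLift (𝟙 T) n := by
      apply IsHomLift.of_fac' (FibCat.overCat U).p _ _ hA hA'
      change eqToHom (hA.trans hA'.symm) = eqToHom hA ≫ 𝟙 T ≫ eqToHom hA'.symm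
      simp
    have hm' : (ofSp F).p.IsHomLift (𝟙 T) m := by
      rw [← BasedFunctor.isHomLift_iff Φ]
      have : Φ.map m = n := hm
      rw [this]
      exact hn
    have h4 : m.hom = 𝟙 T := by
      have h6 : (ofSp F).p.map m = eqToHom rfl ≫ 𝟙 T ≫ eqToHom rfl :=
        IsHomLift.fac' (ofSp F).p (𝟙 T) m
      have h7 : (ofSp F).p.map m = m.hom := rfl
      rw [h7] at h6
      rw [h6]
      simp
    have h5 : F.obj.map m.hom.op σ' = σ := m.map_sec
    rw [h4] at h5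
    simpa using h5.symm
  have : ∀ T, Mono ((spMapOfOver Φ).hom.app T) := fun T => (mono_iff_injective _).2 (hinj T)
  have : Mono (spMapOfOver Φ).hom := NatTrans.mono_of_mono_app _
  exact (ObjectProperty.ι _).mono_of_mono_map this

/-- (S12840) a fully faithful morphism of algebraic stacks is a monomorphism -/
theorem isMono_of_full_faithful (hB : BootHyp S) {𝒳 𝒴 : AlgSt.Cat S}
    (h𝒳 : IsAlgStack Scheme.fppfPrecoverage 𝒳) (h𝒴 : IsAlgStack Scheme.fppfPrecoverage 𝒴)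
    (f : 𝒳 ⥤ᵇ 𝒴) [f.toFunctor.Full] [f.toFunctor.Faithful] : IsMono f := by
  intro U y
  obtain ⟨F, e, he⟩ := repByAlgSp1_of_faithful hB h𝒳 h𝒴 f U y
  refine ⟨F, e, he, ?_⟩
  have := full_of_isEquivOver he
  have := Groth.Agent.H64.GerbM.fpFst_full y f
  have : (BasedFunctor.comp e (FibCat.fpFst y f)).toFunctor.Full :=
    (inferInstance : (e.toFunctor ⋙ (FibCat.fpFst y f).toFunctor).Full)
  exact mono_spMapOfOver_of_full _

end Groth.Agent.H64.Boot
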