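import Groth.Agent.H64.Boot.Conseq
import Groth.Agent.H64.Fib.InertiaDiag
import Groth.Agent.H64.Stk.EquivTools
import Groth.Agent.H64.Stk.Whisker
import Groth.Agent.H32.Fiberwise

set_option autoImplicit false
open CategoryTheory CategoryTheory.Limits Opposite AlgebraicGeometry
universe v₄ u₄ v₃ u₃ v₂ u₂ v u

/-! Characterisations of representability by algebraic spaces through automorphism kernels, the
relative inertia and the diagonals (conditional on the bootstrap theorem). -/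

namespace Groth.Agent.H64.Boot

open Groth.Agent.H32 Groth.Agent.H64

section general

variable {C : Type u} [Category.{v} C] {𝒳 : BasedCategory.{v₂, u₂} C}
  {𝒴 : BasedCategory.{v₃, u₃} C} {𝒵 : BasedCategory.{v₄, u₄} C}

/-- 2-out-of-3 for equivalences over `C`, cancelling on the right -/
theorem isEquivOver_of_comp_right (g : 𝒳 ⥤ᵇ 𝒴) (h : 𝒴 ⥤ᵇ 𝒵)
    (hgh : FibCat.IsEquivOver (BasedFunctor.comp g h)) (hh : FibCat.IsEquivOver h) :
    FibCat.IsEquivOver g := by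
  obtain ⟨d⟩ := IsEquivOver.nonempty_data hh
  have h1 : FibCat.IsEquivOver (BasedFunctor.comp (BasedFunctor.comp g h) d.inv) :=
    isEquivOver_comp hgh (isEquivOver_inv d)
  have e : BasedFunctor.comp (BasedFunctor.comp g h) d.inv ≅ BasedFunctor.comp g (BasedFunctor.id _) :=
    bwlIso g d.unit
  exact isEquivOver_of_iso e h1

/-- 2-out-of-3 for equivalences over `C`, cancelling on the left -/
theorem isEquivOver_of_comp_left (g : 𝒳 ⥤ᵇ 𝒴) (h : 𝒴 ⥤ᵇ 𝒵)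
    (hgh : FibCat.IsEquivOver (BasedFunctor.comp g h)) (hg : FibCat.IsEquivOver g) :
    FibCat.IsEquivOver h := by
  obtain ⟨d⟩ := IsEquivOver.nonempty_data hg
  have h1 : FibCat.IsEquivOver (BasedFunctor.comp d.inv (BasedFunctor.comp g h)) :=
    isEquivOver_comp (isEquivOver_inv d) hgh
  have e : BasedFunctor.comp d.inv (BasedFunctor.comp g h) ≅ BasedFunctor.comp (BasedFunctor.id _) h :=
    bwrIso d.counit h
  exact isEquivOver_of_iso e h1

/-- a functor between categories fibred in groupoids is faithful iff automorphisms over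
identities killed by it are trivial -/
theorem faithful_iff_trivial_kernel (h𝒳 : FibCat.IsFibGrpd 𝒳.p) (h𝒴 : FibCat.IsFibGrpd 𝒴.p)
    (f : 𝒳 ⥤ᵇ 𝒴) :
    f.toFunctor.Faithful ↔
      ∀ (a : 𝒳.obj) (φ : a ⟶ a), 𝒳.p.map φ = 𝟙 (𝒳.p.obj a) → f.map φ = 𝟙 (f.obj a) → φ = 𝟙 a := by
  constructor
  · intro hf a φ _ h2
    apply f.toFunctor.map_injective
    exact h2.trans (f.toFunctor.map_id a).symm
  · intro h
    apply faithful_of_fiberFunctor_faithful f h𝒳 h𝒴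
    intro U
    refine ⟨fun {X Y} a b hab => ?_⟩
    have hf : f.map a.1 = f.map b.1 := congrArg Subtype.val hab
    apply Functor.Fiber.hom_ext
    have ha : 𝒳.p.IsHomLift (𝟙 U) a.1 := a.2
    have hb : 𝒳.p.IsHomLift (𝟙 U) b.1 := b.2
    have ib : IsIso b.1 := isIso_of_lift_id 𝒳.p h𝒳 hb
    have hbi : 𝒳.p.IsHomLift (𝟙 U) (inv b.1) := lift_inv_of_isIso 𝒳.p b.1 hb
    have hφ : 𝒳.p.IsHomLift (𝟙 U) (a.1 ≫ inv b.1) := lift_id_comp_id 𝒳.p ha hbi
    have h1 : 𝒳.p.map (a.1 ≫ inv b.1) = 𝟙 (𝒳.p.obj X.1) := by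
      have e := IsHomLift.fac' 𝒳.p (𝟙 U) (a.1 ≫ inv b.1)
      rw [e]; simp
    have h2 : f.map (a.1 ≫ inv b.1) = 𝟙 (f.obj X.1) := by
      have e1 : f.map (a.1 ≫ inv b.1) = f.map a.1 ≫ f.map (inv b.1) := f.toFunctor.map_comp _ _
      have e2 : f.map (inv b.1) = inv (f.map b.1) := f.toFunctor.map_inv b.1
      rw [e1, e2, hf]
      exact IsIso.hom_inv_id _
    have h3 := h X.1 (a.1 ≫ inv b.1) h1 h2
    have h4 : a.1 = (a.1 ≫ inv b.1) ≫ b.1 := by simp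
    change a.1 = b.1
    rw [h4, h3, Category.id_comp]

/-- the relative inertia of a faithful functor is trivial -/
theorem isEquivOver_inertiaToBase_of_faithful (f : 𝒳 ⥤ᵇ 𝒴) [f.toFunctor.Faithful] :
    FibCat.IsEquivOver (FibCat.inertiaToBase f) := by
  have haut : ∀ X : FibCat.InertiaObj f, X.aut.hom = 𝟙 X.pt := fun X => by
    apply f.toFunctor.map_injective
    exact X.map_aut.trans (f.toFunctor.map_id _).symm
  have hfaith : (FibCat.inertiaToBase f).toFunctor.Faithful :=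
    ⟨fun {X Y} m m' h => FibCat.InertiaObj.hom_ext h⟩
  have hfull : (FibCat.inertiaToBase f).toFunctor.Full := by
    refine ⟨fun {X Y} m => ⟨⟨m, ?_⟩, rfl⟩⟩
    rw [haut X, haut Y]
    exact (Category.id_comp _).trans (Category.comp_id _).symm
  apply isEquivOver_of_fullyFaithful_of_fiberwise_essSurj
  intro η
  exact ⟨⟨η, Iso.refl η, f.toFunctor.map_id η⟩, Iso.refl _, IsHomLift.id rfl⟩

/-- if the relative inertia is trivial, automorphisms over identities killed by the functor are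
trivial -/
theorem trivial_kernel_of_isEquivOver_inertiaToBase (h𝒳 : FibCat.IsFibGrpd 𝒳.p) (f : 𝒳 ⥤ᵇ 𝒴)
    (h : FibCat.IsEquivOver (FibCat.inertiaToBase f)) (a : 𝒳.obj) (φ : a ⟶ a)
    (h1 : 𝒳.p.map φ = 𝟙 (𝒳.p.obj a)) (h2 : f.map φ = 𝟙 (f.obj a)) : φ = 𝟙 a := by
  have := full_of_isEquivOver h
  have hl : 𝒳.p.IsHomLift (𝟙 (𝒳.p.obj a)) φ := by
    apply IsHomLift.of_fac 𝒳.p _ _ rfl rfl
    rw [h1]; simp
  have : IsIso φ := isIso_of_lift_id 𝒳.p h𝒳 hl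
  let X : FibCat.InertiaObj f := ⟨a, asIso φ, h2⟩
  let Y : FibCat.InertiaObj f := ⟨a, Iso.refl a, f.toFunctor.map_id a⟩
  obtain ⟨ψ, hψ⟩ := (FibCat.inertiaToBase f).toFunctor.map_surjective (X := X) (Y := Y) (𝟙 a)
  have h3 : ψ.hom = 𝟙 a := hψ
  have h4 := ψ.comm
  rw [h3] at h4
  simpa [X, Y] using h4

end general

variable {S : Scheme.{u}}

open AlgSt

/-- (S12977) -/
theorem repByAlgSp1_iff_trivial_kernel (hB : BootHyp S) {𝒳 𝒴 : AlgSt.Cat S}
    (h𝒳 : IsAlgStack Scheme.fppfPrecoverage 𝒳) (h𝒴 : IsAlgStack Scheme.fppfPrecoverage 𝒴)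
    (f : 𝒳 ⥤ᵇ 𝒴) :
    RepByAlgSp1 f ↔
      ∀ (a : 𝒳.obj) (φ : a ⟶ a), 𝒳.p.map φ = 𝟙 (𝒳.p.obj a) → f.map φ = 𝟙 (f.obj a) → φ = 𝟙 a := by
  rw [← faithful_iff_repByAlgSp1 hB h𝒳 h𝒴 f]
  exact faithful_iff_trivial_kernel h𝒳.isStack.1 h𝒴.isStack.1 f

/-- (S13040) -/
theorem repByAlgSp1_iff_isEquivOver_inertiaToBase (hB : BootHyp S) {𝒳 𝒴 : AlgSt.Cat S}
    (h𝒳 : IsAlgStack Scheme.fppfPrecoverage 𝒳) (h𝒴 : IsAlgStack Scheme.fppfPrecoverage 𝒴)
    (f : 𝒳 ⥤ᵇ 𝒴) :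
    RepByAlgSp1 f ↔ FibCat.IsEquivOver (FibCat.inertiaToBase f) := by
  constructor
  · intro h
    have := (faithful_iff_repByAlgSp1 hB h𝒳 h𝒴 f).2 h
    exact isEquivOver_inertiaToBase_of_faithful f
  · intro h
    rw [repByAlgSp1_iff_trivial_kernel hB h𝒳 h𝒴 f]
    exact trivial_kernel_of_isEquivOver_inertiaToBase h𝒳.isStack.1 f h

/-- (S12976) -/
theorem repByAlgSp1_iff_isEquivOver_diag_diag (hB : BootHyp S) {𝒳 𝒴 : AlgSt.Cat S}
    (h𝒳 : IsAlgStack Scheme.fppfPrecoverage 𝒳) (h𝒴 : IsAlgStack Scheme.fppfPrecoverage 𝒴)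
    (f : 𝒳 ⥤ᵇ 𝒴) :
    RepByAlgSp1 f ↔ FibCat.IsEquivOver (FibCat.diag (FibCat.diag f)) := by
  rw [repByAlgSp1_iff_isEquivOver_inertiaToBase hB h𝒳 h𝒴 f]
  have hE := isEquivOver_inertiaE f
  have hEf := inertiaE_comp_fpFst f
  have hD : BasedFunctor.comp (FibCat.diag (FibCat.diag f))
      (FibCat.fpFst (FibCat.diag f) (FibCat.diag f)) = BasedFunctor.id 𝒳 := rfl
  constructor
  · intro h
    have h1 : FibCat.IsEquivOver (FibCat.fpFst (FibCat.diag f) (FibCat.diag f)) := by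
      apply isEquivOver_of_comp_left (inertiaE f) _ _ hE
      rw [hEf]; exact h
    apply isEquivOver_of_comp_right _ _ _ h1
    rw [hD]; exact isEquivOver_id _
  · intro h
    have h1 : FibCat.IsEquivOver (FibCat.fpFst (FibCat.diag f) (FibCat.diag f)) := by
      apply isEquivOver_of_comp_left (FibCat.diag (FibCat.diag f)) _ _ h
      rw [hD]; exact isEquivOver_id _
    rw [← hEf]
    exact isEquivOver_comp hE h1

/-- (S12978) -/
theorem repByAlgSp1_of_isMono_diag (hB : BootHyp S) {𝒳 𝒴 : AlgSt.Cat S}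
    (h𝒳 : IsAlgStack Scheme.fppfPrecoverage 𝒳) (h𝒴 : IsAlgStack Scheme.fppfPrecoverage 𝒴)
    (f : 𝒳 ⥤ᵇ 𝒴) (hΔ : IsMono (FibCat.diag f)) : RepByAlgSp1 f := by
  rw [repByAlgSp1_iff_trivial_kernel hB h𝒳 h𝒴 f]
  intro a φ _ h2
  have hfp : FibCat.IsFibGrpd (FibCat.fp f f).p :=
    isFibGrpd_fp f f h𝒳.isStack.1 h𝒳.isStack.1 h𝒴.isStack.1
  have := full_of_isMono h𝒳.isStack.1 hfp (FibCat.diag f) hΔ
  let D : (FibCat.fp f f).obj := (FibCat.diag f).obj a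
  let m : D ⟶ D := fpHomMk f f (z := D) (z' := D) φ (𝟙 a) (by
    show f.map φ ≫ 𝟙 _ = 𝟙 _ ≫ f.map (𝟙 a)
    rw [h2, f.toFunctor.map_id])
  obtain ⟨ψ, hψ⟩ := (FibCat.diag f).toFunctor.map_surjective m
  have h3 : ψ = φ := congrArg (fun t => t.hom.fst) hψ
  have h4 : ψ = 𝟙 a := congrArg (fun t => t.hom.snd) hψ
  exact h3.symm.trans h4

end Groth.Agent.H64.Boot
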