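import Groth.Agent.H64.Boot.Conseq
import Groth.Agent.H32.Setoid
import Groth.Agent.H64.Stk.LocEss

set_option autoImplicit false
open CategoryTheory CategoryTheory.Limits Opposite AlgebraicGeometry
universe v₂ u₂ v u

/-! The inertia of a category fibred in setoids. -/

namespace Groth.Agent.H64.Boot

open Groth.Agent.H32

section general

variable {C : Type u} [Category.{v} C] {𝒳 : BasedCategory.{v₂, u₂} C}

theorem aut_eq_id_of_isFibSetoid (hs : FibCat.IsFibSetoid 𝒳.p) (x : 𝒳.obj) (α : x ≅ x)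
    (hα : 𝒳.p.map α.hom = 𝟙 (𝒳.p.obj x)) : α.hom = 𝟙 x := by
  have h1 : 𝒳.p.IsHomLift (𝟙 (𝒳.p.obj x)) α.hom := by
    apply IsHomLift.of_fac 𝒳.p _ _ rfl rfl
    rw [hα]
    simp
  have h2 : 𝒳.p.IsHomLift (𝟙 (𝒳.p.obj x)) (𝟙 x) := IsHomLift.id rfl
  let X : 𝒳.p.Fiber (𝒳.p.obj x) := ⟨x, rfl⟩
  let a : X ⟶ X := ⟨α.hom, h1⟩
  let b : X ⟶ X := ⟨𝟙 x, h2⟩
  have : a = b := (hs.2 (𝒳.p.obj x) X X).elim a b
  exact congrArg Subtype.val this

theorem isEquivOver_inertiaToBase_of_isFibSetoid (hs : FibCat.IsFibSetoid 𝒳.p) :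
    FibCat.IsEquivOver (FibCat.inertiaToBase (FibCat.toSelf 𝒳)) := by
  have hfaith : (FibCat.inertiaToBase (FibCat.toSelf 𝒳)).toFunctor.Faithful :=
    ⟨fun {X Y} f g h => FibCat.InertiaObj.hom_ext h⟩
  have hfull : (FibCat.inertiaToBase (FibCat.toSelf 𝒳)).toFunctor.Full := by
    refine ⟨fun {X Y} f => ⟨⟨f, ?_⟩, rfl⟩⟩
    have h1 : X.aut.hom = 𝟙 _ := aut_eq_id_of_isFibSetoid hs X.pt X.aut X.map_aut
    have h2 : Y.aut.hom = 𝟙 _ := aut_eq_id_of_isFibSetoid hs Y.pt Y.aut Y.map_aut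
    rw [h1, h2]
    exact (Category.id_comp _).trans (Category.comp_id _).symm
  apply isEquivOver_of_fullyFaithful_of_fiberwise_essSurj
  intro η
  exact ⟨⟨η, Iso.refl η, 𝒳.p.map_id η⟩, Iso.refl _, IsHomLift.id rfl⟩

end general

variable {S : Scheme.{u}}

open AlgSt

/-- (S12791) the inertia maps isomorphically to an algebraic stack iff the stack is an algebraic
space -/
theorem isEquivOver_inertiaToBase_iff_repByAlgSp (hB : BootHyp S) {𝒳 : AlgSt.Cat S}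
    (h𝒳 : IsAlgStack Scheme.fppfPrecoverage 𝒳) :
    FibCat.IsEquivOver (FibCat.inertiaToBase (FibCat.toSelf 𝒳)) ↔ RepByAlgSp 𝒳 := by
  constructor
  · intro h
    have := Groth.Agent.H64.full_of_isEquivOver h
    exact repByAlgSp_of_isFibSetoid hB h𝒳 (isFibSetoid_of_inertiaToBase_full h𝒳.isStack.1)
  · intro h
    exact isEquivOver_inertiaToBase_of_isFibSetoid
      (Groth.Agent.H64.OpenCov.isFibSetoid_of_repByAlgSp h)

end Groth.Agent.H64.Boot
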