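import Groth.Agent.H64.Aff.SheafPres
import Groth.Agent.H64.Psh.RepDictWith
import Groth.Agent.H64.Psh.SmoothLoc
import Groth.Agent.H64.Pts.ChartTop
import Groth.Agent.H64.FldPt.Tfae
import Groth.Agent.H64.AlgStEquiv

set_option autoImplicit false
open CategoryTheory CategoryTheory.Limits Opposite AlgebraicGeometry
universe u

/-! Consequences for algebraic stacks of the bootstrap theorem for algebraic spaces (a sheaf
receiving an fppf covering, representable by algebraic spaces, from an algebraic space is an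
algebraic space), stated CONDITIONALLY on that theorem (`BootHyp`). -/

namespace Groth.Agent.H64.Boot

open Groth.Agent.H32 Groth.Agent.H64.Recog Groth.Agent.H64.FpRep AlgSt Groth.Agent.H64.PTh
  Groth.Agent.H64.Pts Groth.Agent.H64.FldPt

variable {S : Scheme.{u}}

/-- the bootstrap theorem, as a hypothesis (the statement of `S10104`) -/
def BootHyp (S : Scheme.{u}) : Prop :=
  ∀ (F : AlgSp.Sp S) (U : AlgSp.Space S) (p : U.obj ⟶ F),
    AlgSp.RepBySpWith (AlgSp.IsSurjectiveMor ⊓ AlgSp.LocP @Flat ⊓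
      AlgSp.LocP @LocallyOfFinitePresentation) p.hom → AlgSp.IsAlgSpace F

/-- a morphism with several properties, with a common representing space -/
theorem repByAlgSpWith_fppf_inf {𝒴 𝒳 : AlgSt.Cat S} (f : 𝒴 ⥤ᵇ 𝒳)
    (h1 : RepByAlgSpWith AlgSp.IsSurjectiveMor f) (h2 : RepByAlgSpWith (AlgSp.LocP @Flat) f)
    (h3 : RepByAlgSpWith (AlgSp.LocP @LocallyOfFinitePresentation) f) :
    RepByAlgSpWith (AlgSp.IsSurjectiveMor ⊓ AlgSp.LocP @Flat ⊓
      AlgSp.LocP @LocallyOfFinitePresentation) f := by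
  intro U y
  obtain ⟨F, e, he, hs⟩ := h1 U y
  have := locP_respectsIso (S := S) @Flat
  have := locP_respectsIso (S := S) @LocallyOfFinitePresentation
  exact ⟨F, e, he, ⟨hs, prop_of_any_presentation f h2 U y e he⟩,
    prop_of_any_presentation f h3 U y e he⟩

/-- KEY (general form): a stack fibred in setoids receiving an fppf covering, representable by
algebraic spaces, from an algebraic space is representable by an algebraic space -/
theorem repByAlgSp_of_isFibSetoid_of_chart (hB : BootHyp S) {𝒳 : AlgSt.Cat S}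
    (hst : Stk.IsStack (AlgSp.J S) 𝒳) (hs : FibCat.IsFibSetoid 𝒳.p)
    (A : AlgSp.Space S) (q : ofSp A.obj ⥤ᵇ 𝒳)
    (hq1 : RepByAlgSpWith AlgSp.IsSurjectiveMor q) (hq2 : RepByAlgSpWith (AlgSp.LocP @Flat) q)
    (hq3 : RepByAlgSpWith (AlgSp.LocP @LocallyOfFinitePresentation) q) :
    RepByAlgSp 𝒳 := by
  obtain ⟨F, e₀, he₀⟩ := Groth.Agent.H64.Aff.exists_sheaf_of_stack_setoid hs hst
  obtain ⟨d₀⟩ := IsEquivOver.nonempty_data he₀
  let Φ : ofSp A.obj ⥤ᵇ ofSp F := BasedFunctor.comp q d₀.inv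
  let p : A.obj ⟶ F := ObjectProperty.homMk (pshMapOf Φ)
  obtain ⟨β⟩ := nonempty_iso_ofPshMap Φ
  have ε : BasedFunctor.comp (ofSpMap p) e₀ ≅ BasedFunctor.comp (BasedFunctor.id _) q :=
    bwrIso β e₀ ≪≫ bwlIso q d₀.counit
  have tr : ∀ P : MorphismProperty (AlgSp.Sp S), RepByAlgSpWith P q →
      RepByAlgSpWith P (ofSpMap p) := fun P h =>
    repByAlgSpWith_of_square P q (ofSpMap p) (BasedFunctor.id _) e₀ (isEquivOver_id _) he₀ ε h
  have h1 := tr _ hq1
  have h2 := tr _ hq2
  have h3 := tr _ hq3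
  have h4 := repByAlgSpWith_fppf_inf (ofSpMap p) h1 h2 h3
  have hrep : AlgSp.RepBySp p.hom :=
    repBySp_of_repByAlgSp1 p.hom (RepByAlgSpWith.repByAlgSp1 h1)
  have := locP_respectsIso (S := S) @Flat
  have := locP_respectsIso (S := S) @LocallyOfFinitePresentation
  have := isSurjectiveMor_respectsIso (S := S)
  have h5 : AlgSp.RepBySpWith (AlgSp.IsSurjectiveMor ⊓ AlgSp.LocP @Flat ⊓
      AlgSp.LocP @LocallyOfFinitePresentation) p.hom :=
    repBySpWith_of_repByAlgSpWith p.hom _ hrep h4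
  exact ⟨⟨F, hB F A p h5⟩, e₀, he₀⟩

/-- KEY: an algebraic stack fibred in setoids is representable by an algebraic space -/
theorem repByAlgSp_of_isFibSetoid (hB : BootHyp S) {𝒳 : AlgSt.Cat S}
    (h𝒳 : IsAlgStack Scheme.fppfPrecoverage 𝒳) (hs : FibCat.IsFibSetoid 𝒳.p) :
    RepByAlgSp 𝒳 := by
  obtain ⟨U, x, hx, hxs⟩ := h𝒳.atlas
  have tr : ∀ P : MorphismProperty (AlgSp.Sp S), RepByAlgSpWith P x →
      RepByAlgSpWith P (BasedFunctor.comp (toOverCat U) x) := fun P h =>
    repByAlgSpWith_of_square P x _ (toOverCat U) (BasedFunctor.id _) (isEquivOver_toOverCat U)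
      (isEquivOver_id _) (Iso.refl _) h
  exact repByAlgSp_of_isFibSetoid_of_chart hB h𝒳.isStack hs (yonSpace U)
    (BasedFunctor.comp (toOverCat U) x) (tr _ hxs)
    (tr _ (repByAlgSpWith_locP_mono smooth_le_flat x hx))
    (tr _ (repByAlgSpWith_locP_mono smooth_le_lfp x hx))

end Groth.Agent.H64.Boot
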