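import Groth.Agent.H64.Boot.Conseq
import Groth.Agent.H64.OpenCov.ClosedImmPres
import Groth.Agent.H64.Psh.PDescent2
import Groth.Agent.H64.Psh.PCompInst

set_option autoImplicit false
open CategoryTheory CategoryTheory.Limits Opposite AlgebraicGeometry
universe u

/-! Representability and monomorphisms tested on an fppf presentation (conditional on the
bootstrap theorem). -/

namespace Groth.Agent.H64.Boot

open Groth.Agent.H32 Groth.Agent.H64.Recog Groth.Agent.H64.FpRep AlgSt Groth.Agent.H64.PTh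
  Groth.Agent.H64.OpenCov

variable {S : Scheme.{u}}

/-- (S12842) -/
theorem repByAlgSp1_of_presentation (hB : BootHyp S) {𝒳 𝒴 : AlgSt.Cat S}
    (h𝒳 : IsAlgStack Scheme.fppfPrecoverage 𝒳) (h𝒴 : IsAlgStack Scheme.fppfPrecoverage 𝒴)
    (f : 𝒳 ⥤ᵇ 𝒴) (W : AlgSp.Space S) (w : ofSp W.obj ⥤ᵇ 𝒴)
    (hw₁ : RepByAlgSpWith (AlgSp.LocP @Flat) w)
    (hw₂ : RepByAlgSpWith (AlgSp.LocP @LocallyOfFinitePresentation) w)
    (hw₃ : RepByAlgSpWith AlgSp.IsSurjectiveMor w)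
    (h : RepByAlgSp (FibCat.fp w f)) : RepByAlgSp1 f := by
  obtain ⟨V, e, he⟩ := h
  have := faithful_of_presentation h𝒳.isStack h𝒴.isStack.1 f W w hw₁ hw₂ hw₃ V.obj e he
  exact repByAlgSp1_of_faithful hB h𝒳 h𝒴 f

/-- (S12841) -/
theorem isMono_iff_presentation (hB : BootHyp S) {𝒳 𝒴 : AlgSt.Cat S}
    (h𝒳 : IsAlgStack Scheme.fppfPrecoverage 𝒳) (h𝒴 : IsAlgStack Scheme.fppfPrecoverage 𝒴)
    (f : 𝒳 ⥤ᵇ 𝒴) (W : AlgSp.Space S) (w : ofSp W.obj ⥤ᵇ 𝒴)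
    (hw₁ : RepByAlgSpWith (AlgSp.LocP @Flat) w)
    (hw₂ : RepByAlgSpWith (AlgSp.LocP @LocallyOfFinitePresentation) w)
    (hw₃ : RepByAlgSpWith AlgSp.IsSurjectiveMor w) :
    IsMono f ↔
      ∃ (V : AlgSp.Space S) (a : V ⟶ W) (e : ofSp V.obj ⥤ᵇ FibCat.fp w f),
        FibCat.IsEquivOver e ∧
          Nonempty (BasedFunctor.comp e (FibCat.fpFst w f) ≅ ofSpMap a.hom) ∧ Mono a.hom := by
  constructor
  · intro h
    exact (repByAlgSpWith_iff_presentation h𝒳.isStack.1 h𝒴.isStack.1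
      (stableBC_of_inst (MorphismProperty.monomorphisms (AlgSp.Sp S))) isLocalOnBase_fppf_mono f
      (RepByAlgSpWith.repByAlgSp1 h) W w hw₁ hw₂ hw₃).1 h
  · rintro ⟨V, a, e, he, hα, hm⟩
    have hf1 : RepByAlgSp1 f :=
      repByAlgSp1_of_presentation hB h𝒳 h𝒴 f W w hw₁ hw₂ hw₃ ⟨V, e, he⟩
    exact (repByAlgSpWith_iff_presentation h𝒳.isStack.1 h𝒴.isStack.1
      (stableBC_of_inst (MorphismProperty.monomorphisms (AlgSp.Sp S))) isLocalOnBase_fppf_mono f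
      hf1 W w hw₁ hw₂ hw₃).2 ⟨V, a, e, he, hα, hm⟩

end Groth.Agent.H64.Boot
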